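/-
Project DW: reduction to simple groups, and the model of a Sylow `2`-subgroup of `S₈`.
-/
import Cfsg.Agent.DW.Defs
import Cfsg.Agent.Grp.MinNormal

set_option autoImplicit false

open Cfsg Subgroup CL.Grp CL.M12c CL.PcL

namespace CL.DW

universe u

namespace Red

variable {G : Type u} [Group G] [Finite G] {φ : W →* G}

theorem isP (D : Sy φ) : IsPGroup 2 W := D.syl.isPGroup.of_equiv (MonoidHom.ofInjective D.inj).symm

/-- A normal subgroup of even order contains `z`. -/
theorem z_mem (D : Sy φ) (hO : oddCore G = ⊥) {K : Subgroup G} [hK : K.Normal] (hne : K ≠ ⊥) : φ z ∈ K := by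
  have h2 : 2 ∣ Nat.card K := by
    by_contra h
    exact hne (eq_bot_iff.2 (hO ▸ le_oddCore (normalizer_eq_top K) (Nat.odd_iff.2 (Nat.two_dvd_ne_zero.1 h))))
  obtain ⟨x, hx⟩ := exists_prime_orderOf_dvd_card' 2 h2
  obtain ⟨g, p, -, p1, e⟩ := D.exists_inv ((orderOf_coe x).trans hx)
  have := (isP D).isNilpotent
  by_contra hz
  refine inf_center_ne_bot (N := K.comap φ) (fun h => p1 (mem_bot.1 (h.le (show φ p ∈ K from
    e ▸ hK.conj_mem _ x.2 g)))) (eq_bot_iff.2 fun q ⟨h1, h3⟩ => ?_)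
  rcases (by decide +kernel : ∀ q : W, (∀ c, c * q = q * c) → q = 1 ∨ q = z) q (mem_center_iff.1 h3) with rfl | rfl
  exacts [one_mem _, (hz h1).elim]

theorem gen {M : Submonoid W} (h1 : a1 ∈ M) (h2 : b1 ∈ M) (h3 : t1 ∈ M) (h4 : a2 ∈ M) (h5 : b2 ∈ M) (h6 : t2 ∈ M)
    (h7 : tau ∈ M) (p : W) : p ∈ M := by
  rw [(by decide +kernel : ∀ p : W, p = a1 ^ (p.1 % 2) * b1 ^ (p.1 / 2 % 2) * t1 ^ (p.1 / 4 % 2) * a2 ^ (p.1 / 8 % 2) *
    b2 ^ (p.1 / 16 % 2) * t2 ^ (p.1 / 32 % 2) * tau ^ (p.1 / 64)) p]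
  exact mul_mem (mul_mem (mul_mem (mul_mem (mul_mem (mul_mem (pow_mem h1 _) (pow_mem h2 _)) (pow_mem h3 _))
    (pow_mem h4 _)) (pow_mem h5 _)) (pow_mem h6 _)) (pow_mem h7 _)

theorem range_le {lie : Bool} {ra rb g0 : G} (F : Fus φ lie ra rb g0) {K : Subgroup G} [hK : K.Normal]
    (hz : φ z ∈ K) (p : W) : φ p ∈ K := by
  have cj : ∀ {g a b}, Cj φ g a b → b ∈ K.comap φ → a ∈ K.comap φ := fun {g _ _} e h =>
    show φ _ ∈ K from Eq.symm e.symm ▸ hK.conj_mem _ h g⁻¹
  have of : ∀ {a b : W}, a ∈ K.comap φ → a = b → b ∈ K.comap φ := fun h e => e ▸ h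
  have tj : ∀ {a : W}, a ∈ K.comap φ → tau * a * tau⁻¹ ∈ K.comap φ := fun h => (hK.comap φ).conj_mem _ h _
  have h1 := cj ((F.a_a2.mul F.a_t1).of_eq rfl (show _ = z by decide +kernel)) hz
  have h2 := cj ((F.b_b2.mul F.b_t1).of_eq rfl (show _ = z by decide +kernel)) hz
  have h3 := of (mul_mem (mul_mem h1 h2) (mul_mem h1 h2)) (show _ = t2 by decide +kernel)
  have h4 := of (tj h3) (show _ = t1 by decide +kernel)
  have h5 := of (mul_mem h1 h4) (show _ = a2 by decide +kernel)
  have h6 := of (mul_mem h2 h4) (show _ = b2 by decide +kernel)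
  have h7 := of (tj h6) (show _ = b1 by decide +kernel)
  exact gen (M := (K.comap φ).toSubmonoid) (of (tj h5) (by decide +kernel)) h7 h4 h5 h6 h3 (cj F.g_tau (mul_mem h7 h6)) p

def act (a : W) (x : Fin 8) : Fin 8 := ⟨tf 8 3 7 0x213b37053b374c8b374c1b3705ab3721ab37681b37688b372139770539774c89774c197705a97721a977681977688977213dec053dec4c8dec4c1dec05adec21adec681dec688dec213de5053de54c8de54c1de505ade521ade5681de5688de521397e05397e4c897e4c197e05a97e21a97e68197e68897e213b3e053b3e4c8b3e4c1b3e05ab3e21ab3e681b3e688b3e213fa5053fa54c8fa54c1fa505afa521afa5681fa5688fa5213fac053fac4c8fac4c1fac05afac21afac681fac688facb37213b37053b374c8b374c1b3705ab3721ab37681b376889772139770539774c89774c197705a97721a977681977688dec213dec053dec4c8dec4c1dec05adec21adec681dec688de5213de5053de54c8de54c1de505ade521ade5681de568897e21397e05397e4c897e4c197e05a97e21a97e68197e688b3e213b3e053b3e4c8b3e4c1b3e05ab3e21ab3e681b3e688fa5213fa5053fa54c8fa54c1fa505afa521afa5681fa5688fac213fac053fac4c8fac4c1fac05afac21afac681fac688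 (8 * a.1 + x.1), Nat.mod_lt _ (by decide)⟩

def ok : Submonoid W where
  carrier := {b | ∀ a x, act (a * b) x = act a (act b x)}
  one_mem' := (by decide +kernel : ∀ a x, act (a * 1) x = act a (act 1 x))
  mul_mem' := fun {b c} hb hc a x => by rw [← mul_assoc, hc, hb, hc]

instance (b : W) : Decidable (b ∈ ok) := inferInstanceAs (Decidable (∀ a x, act (a * b) x = act a (act b x)))

def th : W →* Equiv.Perm (Fin 8) := MonoidHom.toHomPerm
  { toFun := act
    map_one' := funext (by decide +kernel)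
    map_mul' := fun a b => funext (gen (M := ok) (by decide +kernel) (by decide +kernel) (by decide +kernel)
      (by decide +kernel) (by decide +kernel) (by decide +kernel) (by decide +kernel) b a) }

theorem sy_th : Sy th := by
  have inj : Function.Injective th := (injective_iff_map_eq_one _).2 fun a h =>
    (by decide +kernel : ∀ a, (∀ x, act a x = x) → a = 1) a fun x => Equiv.congr_fun h x
  refine ⟨inj, isSylowIn_top (Sylow.ofCard th.range ?_)⟩
  rw [← Nat.card_congr (MonoidHom.ofInjective inj).toEquiv, card_W, Nat.card_perm, Nat.card_fin]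
  decide +kernel

end Red

open Red

theorem redThm_of (h : FusThm.{u}) : RedThm.{u} := fun G _ _ φ D hi hO => by
  obtain ⟨e, lie, ra, rb, g0, F, -⟩ := h G φ D hi
  have z1 : z ≠ 1 := by decide +kernel
  have : Nontrivial G := ⟨_, _, fun e => z1 (D.inj (e.trans φ.map_one.symm))⟩
  obtain ⟨N, hN⟩ := exists_isMinNormal G
  have := hN.normal
  have h1 := range_le F (z_mem F.sy hO hN.ne_bot)
  refine ⟨N, hN.normal, ?_, ?_⟩
  · rintro _ ⟨p, rfl⟩
    simpa using h1 (e.symm p)
  have := hN.nontrivial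
  have hz : ∀ {K : Subgroup N}, IsMinNormal K → (φ.comp e.toMonoidHom).codRestrict N h1 z ∈ K := fun hK =>
    haveI := hK.normal
    z_mem (F.sy.sub h1) (pPrimeCore_eq_bot_of_isSubnormal hN.normal.isSubnormal hO) hK.ne_bot
  refine ⟨fun K hK => or_iff_not_imp_left.2 fun hne => ?_⟩
  obtain ⟨M, hM, hle⟩ := exists_isMinNormal_le K hne
  have h2 : ∀ g : G, M = M.map (MulAut.conjNormal g : N ≃* N) := fun g => by
    by_contra hg
    exact z1 ((F.sy.sub h1).inj ((mem_bot.1 ((hM.inf_eq_bot_of_ne (hM.map_equiv _) hg).le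
      ⟨hz hM, hz (hM.map_equiv _)⟩)).trans (map_one _).symm))
  have : (M.map N.subtype).Normal := ⟨by
    rintro _ ⟨x, hx, rfl⟩ g
    exact ⟨_, (h2 g).ge (mem_map_of_mem _ hx), rfl⟩⟩
  have h3 := hN.eq_of_le (K := M.map N.subtype) (fun e => hM.ne_bot (map_injective N.subtype_injective
    (e.trans (Subgroup.map_bot _).symm))) (map_subtype_le M)
  refine top_le_iff.1 (le_trans (fun x _ => ?_) hle)
  exact (mem_map_iff_mem N.subtype_injective).1 (h3.ge x.2)

theorem exists_sy_of_S8 {G : Type u} [Group G] [Finite G] (T : Sylow 2 G)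
    (hT : ∀ P : Sylow 2 (Equiv.Perm (Fin 8)), Nonempty (T ≃* P)) : ∃ φ : W →* G, Sy φ := by
  obtain ⟨P, hP⟩ := isSylowIn_top_iff.1 sy_th.syl
  obtain ⟨e⟩ := hT P
  let f : W ≃* (T : Subgroup G) := (MonoidHom.ofInjective sy_th.inj).trans ((MulEquiv.subgroupCongr hP.symm).trans
    e.symm)
  have : ((T : Subgroup G).subtype.comp f.toMonoidHom).range = T := by
    rw [MonoidHom.range_comp, MonoidHom.range_eq_top.2 f.surjective, ← MonoidHom.range_eq_map, range_subtype]
  exact ⟨_, Subtype.val_injective.comp f.injective, by rw [this]; exact isSylowIn_top T⟩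

theorem sy_quot {G : Type u} [Group G] [Finite G] {L : Type*} [Group L] {φ : L →* G} (D : Sy φ) (N : Subgroup G)
    [N.Normal] (hN : Odd (Nat.card N)) : Sy ((QuotientGroup.mk' N).comp φ) := by
  refine ⟨(injective_iff_map_eq_one _).2 fun p hp => D.inj ?_, ?_⟩
  · rw [map_one]
    exact eq_one_of_coprime_of_mem D.syl.isPGroup ⟨p, rfl⟩ (hN.coprime_two_right.coprime_dvd_left
      (Subgroup.orderOf_dvd_natCard _ ((QuotientGroup.eq_one_iff _).1 hp)))
  · rw [MonoidHom.range_comp, ← map_top_of_surjective _ (QuotientGroup.mk'_surjective N)]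
    exact Loc.IsSylowIn.map_hom D.syl _

end CL.DW
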