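/-
Project DW/LY: finite facts on the involutions of the Sylow `2`-subgroup of the Lyons group.
-/
import Cfsg.Agent.DW.LyDefs

set_option autoImplicit false

open Cfsg Subgroup CL.Grp CL.M12c CL.PcL CL.FW.Syl

namespace CL.DW.LyF

abbrev xa : V := vv 33
abbrev xb : V := vv 34
abbrev be : V := vv 18
abbrev ab : V := vv 17
abbrev zc : V := vv 164
abbrev p4 (v : V) : V := v * v * (v * v)

theorem xa_eq : la1 * lt2 = xa := by decide +kernel
theorem xb_eq : lb1 * lt2 = xb := by decide +kernel

/-- the number of the class of an involution -/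
def cl (p : V) : ℕ := (0xe001c0000038000007000e000000001c000003800000700000017417018318011a118000000174170183180000001000e001c0000038000007000e000000001c000003800000700000017417018318011a118000000174170183180000000 >>> (3 * p.1)) % 8
/-- an element conjugating an involution to the representative of its class -/
def wit (p : V) : V := vv ((0xe000000018000000000000002800000000000000400000000600000000000000000000008000000000000000800000000000000900000000000000002c741002060001380460118000000430100102000000000000000000043440010200013004401100000000000000000000000001c00000003c000000000000006000000000000000d0000000140000000000000000000002c0000000000000040000000000000000000000000000000024543003040001280420108000000c100000000000000000000000000c14000000000120040010000000000000000000 >>> (7 * p.1)) % 128)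
/-- the representatives -/
def rep (n : ℕ) : V := vv ((0x40111222212480 >>> (8 * (n - 1))) % 256)

/-- involutions of `W` which lift to involutions -/
def nT (p : W) : Bool := (0x8402010800402010076547600765400 : ℕ).testBit p.1

/-- `⟨cc, lz, be⟩` -/
abbrev sH : Subgroup V := NG.sub 0x4000100004000100000000000000000040001000040001 (by decide +kernel)
abbrev wA : Subgroup W := TG.sub 0x55aa55aa55aa55aaaa55aa55aa55aa55 (by decide +kernel)
abbrev wB : Subgroup W := TG.sub 0x3333cccc3333cccccccc3333cccc3333 (by decide +kernel)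
abbrev wE1 : Subgroup W := TG.sub 0x400010000400010040001000040001 (by decide +kernel)
abbrev wE2 : Subgroup W := TG.sub 0x8002000800002000004001000400001 (by decide +kernel)

instance (K : Subgroup W) [DecidablePred (· ∈ K)] : DecidablePred (· ∈ K.comap prj) :=
  fun v => inferInstanceAs (Decidable (prj v ∈ K))

theorem card_kA : 2 * Nat.card (wA.comap prj) = Nat.card V := by rw [NG.card_subgroup, card_V]; decide +kernel
theorem card_kB : 2 * Nat.card (wB.comap prj) = Nat.card V := by rw [NG.card_subgroup, card_V]; decide +kernel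

theorem cl_wit : ∀ p : V, cl p ≠ 0 → wit p * p * (wit p)⁻¹ = rep (cl p) := by decide +kernel
theorem cl_inv : ∀ p : V, p * p = 1 → p ≠ 1 → cl p ∈ [1, 2, 3, 4, 5, 6, 7] := by decide +kernel
theorem cl_one : ∀ p : V, cl p = 1 → p = cc := by decide +kernel
theorem casesA : ∀ p : V, prj p ∈ wA → cl p ∈ [0, 1, 2, 4, 5] := by decide +kernel
theorem casesB : ∀ p : V, prj p ∈ wB → cl p ∈ [0, 1, 2, 3, 5] := by decide +kernel
theorem pow4 : ∀ v : V, p4 v ∈ [1, cc, lz, zc] := by decide +kernel
theorem sq_cases : ∀ v : V, cl (v * v) ∈ [0, 1, 2, 5] := by decide +kernel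
theorem no8 : ∀ e ∈ [be, ab, ltau], ∀ v : V, v * e = e * v → p4 v = 1 := by decide +kernel
theorem has8 : ∀ e ∈ [xa, xb, lz], ∃ v ∈ [vv 28, vv 24], v * e = e * v ∧ p4 v = cc := by decide +kernel
theorem cenA : ∀ x : V, cl x ≠ 0 → x * xa = xa * x → ∀ y, cl y ≠ 0 → y * xa = xa * y → p4 (x * y) = 1 := by
  decide +kernel
theorem cenB : ∀ x : V, x * xb = xb * x → p4 x = 1 → x * x ≠ 1 → ∀ y, y * xb = xb * y → p4 y = 1 → y * y ≠ 1 →
    x * y = y * x := by decide +kernel
theorem cenZ : ∀ x : V, cl x ∈ [1, 2, 3, 4, 6] → x * lz = lz * x → ∀ y, cl y ∈ [1, 2, 3, 4, 6] → y * lz = lz * y →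
    p4 (x * y) = 1 := by decide +kernel
theorem nT_prj : ∀ v : V, v * v = 1 → v ≠ 1 → v ≠ cc → nT (prj v) = true := by decide +kernel
theorem e8 : ∀ x : W, nT x = true → ∀ y, nT y = true → nT (x * y) = true → ∀ w, nT w = true → nT (x * w) = true →
    nT (y * w) = true → nT (x * y * w) = true →
      (∀ v, v * x = x * v → v * y = y * v → v * w = w * v → v ∈ wE1) ∨
        ∀ v, v * x = x * v → v * y = y * v → v * w = w * v → v ∈ wE2 := by decide +kernel
theorem mem_prj : ∀ v : V, (prj v ∈ wE1 → v ∈ sE1) ∧ (prj v ∈ wE2 → la1 * v * la1⁻¹ ∈ sE1) := by decide +kernel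
theorem hyp : ∀ q ∈ sE1, q ≠ 1 → ∃ x ∈ [cc, lz], ∃ y ∈ [lz, be], ∃ w ∈ [be, ltau],
    ∀ s ∈ [x, y, x * y, w, x * w, y * w, x * y * w], s ≠ 1 ∧ s ≠ q := by decide +kernel
theorem E_sq : ∀ p ∈ sE1, p * p = 1 ∧ ∀ q ∈ sE1, p * q = q * p := by decide +kernel
theorem E_cases : ∀ p ∈ sE1, p = 1 ∨ p = cc ∨ (p ∈ sZ ∧ cl p = 2) ∨ (p ∈ sH ∧ p ∉ sZ ∧ cl p = 5) ∨
    (p ∉ sH ∧ cl p = 7) := by decide +kernel

end CL.DW.LyF
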