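/-
Project DW/LY: generators and rewriting rules of a Sylow `2`-subgroup of `2·A₁₁`.
-/
import Cfsg.Agent.Spor.LyFus
import Cfsg.Agent.Spor.PcLift

set_option autoImplicit false

open Cfsg Subgroup Equiv CL.LyAbs CL.PcL
open scoped Finset

namespace CL.DW.LyMd

/-- the rules in the letters `A, B, T₁, A₂, B₂, T₂, T, c` -/
def lyR : Rules := [(0, 0, [7]), (1, 1, [7]), (2, 2, [7]), (3, 3, [7]), (4, 4, [7]), (5, 5, [7]), (6, 6, []),
  (7, 7, []), (1, 0, [0, 1, 2, 7]), (2, 0, [0, 2, 7]), (2, 1, [1, 2, 7]), (3, 0, [0, 3, 7]), (3, 1, [1, 3]),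
  (3, 2, [2, 3]), (4, 0, [0, 4]), (4, 1, [1, 4]), (4, 2, [2, 4]), (4, 3, [3, 4, 5, 7]), (5, 0, [0, 5]),
  (5, 1, [1, 5]), (5, 2, [2, 5]), (5, 3, [3, 5, 7]), (5, 4, [4, 5, 7]), (6, 0, [3, 6]), (6, 1, [4, 6]),
  (6, 2, [5, 6]), (6, 3, [0, 6]), (6, 4, [1, 6]), (6, 5, [2, 6]), (7, 0, [0, 7]), (7, 1, [1, 7]), (7, 2, [2, 7]),
  (7, 3, [3, 7]), (7, 4, [4, 7]), (7, 5, [5, 7]), (7, 6, [6, 7])]

section abstract

variable {Γ : Type*} [Group Γ] {c x y : Γ}

theorem inv_of (hc : c * c = 1) (hz : ∀ k, k * c = c * k) (h : x * x = c) : x⁻¹ = x * c := by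
  rw [inv_eq_iff_mul_eq_one, ← mul_assoc, h, hc]

/-- commuting elements of order four -/
theorem cm0 (hc : c * c = 1) (hz : ∀ k, k * c = c * k) (hx : x * x = c) (hy : y * y = c) (h : x * y * (x * y) = 1) :
    y * x = x * y := by
  have : y * x = x⁻¹ * (x * y * (x * y)) * y⁻¹ := by group
  rw [this, h, inv_of hc hz hx, inv_of hc hz hy, mul_one, mul_assoc, ← mul_assoc c, ← hz, mul_assoc, hc, mul_one]

/-- anticommuting elements of order four -/
theorem cm1 (hc : c * c = 1) (hz : ∀ k, k * c = c * k) (hx : x * x = c) (hy : y * y = c) (h : x * y * (x * y) = c) :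
    y * x = x * (y * c) := by
  have : y * x = x⁻¹ * (x * y * (x * y)) * y⁻¹ := by group
  rw [this, h, inv_of hc hz hx, inv_of hc hz hy, mul_assoc x, hc, mul_one]

/-- the rule for a quaternion pair -/
theorem ba (hc : c * c = 1) (hz : ∀ k, k * c = c * k) (hx : x * x = c) (hy : y * y = c)
    (h : x * y * (x * y) * y = y * (x * y * (x * y) * c)) : y * x = x * (y * (x * y * (x * y) * c)) := by
  have : y * x = x⁻¹ * (x * y * (x * y)) * y⁻¹ := by group
  rw [this, inv_of hc hz hx, inv_of hc hz hy, ← h, mul_assoc, mul_assoc, ← hz, mul_assoc, mul_assoc y, hc, mul_one]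

end abstract

variable {G : Type*} [Group G] {K : Subgroup G} {t : K} {τ : K →* A11}

theorem sq_of (h : LyT K t τ) {a k : K} (ha : τ a ^ 2 = 1) (hk : τ k ^ 2 = 1)
    (e : #(τ a).1.support = #(τ k).1.support) : ∃ g : K, k * k = g * a ^ 2 * g⁻¹ := by
  obtain ⟨g, hg⟩ := alt_conj 2 (by norm_num) ha hk e
  obtain ⟨g, rfl⟩ := h.stem.1 g
  refine ⟨g, ?_⟩
  rcases eq_or_of_sq h.ker h.sq (a := k) (b := g * a * g⁻¹) (by rw [← hg]; simp) with e | e
  · rw [← conj_pow, ← e, sq]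
  · rw [← conj_pow, ← h.mul_t_sq, ← e, sq]

theorem sq4 (h : LyT K t τ) {k : K} {p : Perm (Fin 11)} (e : (τ k).1 = p) (hp : p * p = 1 ∧ #p.support = 4) :
    k * k = t := by
  obtain ⟨u, v, y, -, -, v2, v4, -⟩ := h.uvy
  obtain ⟨g, hg⟩ := sq_of h (a := v) (k := k) (by rw [← map_pow, v2, h.map_t])
    (Subtype.ext (by rw [sq, coe_mul, e, hp.1]; rfl)) (by rw [v4, e, hp.2])
  rw [hg, v2, h.comm, mul_inv_cancel_right]

theorem sq8 (h : LyT K t τ) {k : K} {p : Perm (Fin 11)} (e : (τ k).1 = p) (hp : p * p = 1 ∧ #p.support = 8) :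
    k * k = 1 := by
  obtain ⟨u, v, y, u2, u8, -⟩ := h.uvy
  obtain ⟨g, hg⟩ := sq_of h (a := u) (k := k) (by rw [← map_pow, u2, map_one])
    (Subtype.ext (by rw [sq, coe_mul, e, hp.1]; rfl)) (by rw [u8, e, hp.2])
  rw [hg, u2, mul_one, mul_inv_cancel]

def pa : Perm (Fin 11) := swap 8 9 * swap 0 1
def pb : Perm (Fin 11) := swap 0 2 * swap 1 3
def pt : Perm (Fin 11) := swap 0 4 * swap 1 5 * (swap 2 6 * swap 3 7)

theorem exists_holds (h : LyT K t τ) : ∃ g : ℕ → K, Holds g lyR ∧ g 7 = t := by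
  obtain ⟨A, hA⟩ := h.stem.1 ⟨pa, Perm.mem_alternatingGroup.2 (by decide +kernel)⟩
  obtain ⟨B, hB⟩ := h.stem.1 ⟨pb, Perm.mem_alternatingGroup.2 (by decide +kernel)⟩
  obtain ⟨T, hT⟩ := h.stem.1 ⟨pt, Perm.mem_alternatingGroup.2 (by decide +kernel)⟩
  replace hA : (τ A).1 = pa := congrArg Subtype.val hA
  replace hB : (τ B).1 = pb := congrArg Subtype.val hB
  replace hT : (τ T).1 = pt := congrArg Subtype.val hT
  have m : ∀ {x y : K} {p q : Perm (Fin 11)}, (τ x).1 = p → (τ y).1 = q → (τ (x * y)).1 = p * q :=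
    fun e f => by rw [map_mul, coe_mul, e, f]
  have hc : t * t = 1 := (sq t).symm.trans h.sq
  have hz := h.comm
  have TT : T * T = 1 := sq8 h hT (by decide +kernel)
  obtain ⟨U, hU⟩ : ∃ U, U = A * B * (A * B) := ⟨_, rfl⟩
  have eU := hU ▸ m (m hA hB) (m hA hB)
  have cj : ∀ {x : K} {p : Perm (Fin 11)}, (τ x).1 = p → (τ (T * x * T)).1 = pt * p * pt := fun e => m (m hT e) hT
  have r1 : ∀ x : K, T * x = T * x * T * T := fun x => by rw [mul_assoc _ T, TT, mul_one]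
  have r2 : ∀ x : K, T * (T * x * T) = x * T := fun x => by rw [← mul_assoc, ← mul_assoc, TT, one_mul]
  have s0 := sq4 h hA (by decide +kernel)
  have s1 := sq4 h hB (by decide +kernel)
  have s2 := sq4 h eU (by decide +kernel)
  have s3 := sq4 h (cj hA) (by decide +kernel)
  have s4 := sq4 h (cj hB) (by decide +kernel)
  have s5 := sq4 h (cj eU) (by decide +kernel)
  have c21 := cm1 hc hz s1 s2 (sq4 h (m hB eU) (by decide +kernel))
  have c54 := cm1 hc hz s4 s5 (sq4 h (m (cj hB) (cj eU)) (by decide +kernel))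
  have hU2 : T * U * T = T * A * T * (T * B * T) * (T * A * T * (T * B * T)) := by
    have : ∀ x, T * (T * x) = x := fun x => by rw [← mul_assoc, TT, one_mul]
    simp only [hU, mul_assoc, this]
  refine ⟨fun k => [A, B, U, T * A * T, T * B * T, T * U * T, T, t].getD k 1, ?_, rfl⟩
  simp only [Holds, lyR, List.forall_mem_cons, evw, List.getD_cons_succ, List.getD_cons_zero, mul_one,
    List.not_mem_nil, false_imp_iff, implies_true, and_true]
  refine ⟨s0, s1, s2, s3, s4, s5, TT, hc, hU ▸ ba hc hz s0 s1 (hU ▸ c21),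
    cm1 hc hz s0 s2 (sq4 h (m hA eU) (by decide +kernel)), c21,
    cm1 hc hz s0 s3 (sq4 h (m hA (cj hA)) (by decide +kernel)),
    cm0 hc hz s1 s3 (sq8 h (m hB (cj hA)) (by decide +kernel)),
    cm0 hc hz s2 s3 (sq8 h (m eU (cj hA)) (by decide +kernel)),
    cm0 hc hz s0 s4 (sq8 h (m hA (cj hB)) (by decide +kernel)),
    cm0 hc hz s1 s4 (sq8 h (m hB (cj hB)) (by decide +kernel)),
    cm0 hc hz s2 s4 (sq8 h (m eU (cj hB)) (by decide +kernel)),
    hU2 ▸ ba hc hz s3 s4 (hU2 ▸ c54),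
    cm0 hc hz s0 s5 (sq8 h (m hA (cj eU)) (by decide +kernel)),
    cm0 hc hz s1 s5 (sq8 h (m hB (cj eU)) (by decide +kernel)),
    cm0 hc hz s2 s5 (sq8 h (m eU (cj eU)) (by decide +kernel)),
    cm1 hc hz s3 s5 (sq4 h (m (cj hA) (cj eU)) (by decide +kernel)), c54,
    r1 _, r1 _, r1 _, r2 _, r2 _, r2 _, (hz _).symm, (hz _).symm, (hz _).symm, (hz _).symm, (hz _).symm,
    (hz _).symm, (hz _).symm⟩

end CL.DW.LyMd
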